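import Mathlib.LinearAlgebra.Eigenspace.Semisimple
import Mathlib.LinearAlgebra.Eigenspace.Triangularizable
import Mathlib.LinearAlgebra.Matrix.Charpoly.Basic
import Mathlib.LinearAlgebra.Matrix.Charpoly.Univ
import Mathlib.LinearAlgebra.Matrix.ToLin
import Mathlib.LinearAlgebra.Matrix.NonsingularInverse
import Mathlib.LinearAlgebra.Projection
import Mathlib.Algebra.Polynomial.Roots
import Mathlib.Algebra.DirectSum.Module

/-!
# Closures of conjugacy classes and semisimple parts
-/

open Matrix

universe u

namespace Groth.Agent.JordanClH28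

variable {k : Type u} [Field k] {n : ℕ}

local notation "Mat" => Matrix (Fin n) (Fin n) k

lemma charpoly_conj (B : Mat) {A : Mat} (hA : IsUnit A.det) : (A * B * A⁻¹).charpoly = B.charpoly := by
  rw [mul_assoc, Matrix.charpoly_mul_comm, mul_assoc, Matrix.nonsing_inv_mul _ hA, mul_one]

/-- `C` lies in the Zariski closure of the conjugacy class of `B`. -/
def ClIn (B C : Mat) : Prop :=
  ∀ F : MvPolynomial (Fin n × Fin n) k,
    (∀ A : Mat, IsUnit A.det → MvPolynomial.eval (fun p => (A * B * A⁻¹) p.1 p.2) F = 0) →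
      MvPolynomial.eval (fun p => C p.1 p.2) F = 0

lemma ClIn.conj {B C : Mat} (h : ClIn B C) {P : Mat} (hP : IsUnit P.det) : ClIn B (P * C * P⁻¹) := by
  intro F hF
  let L : MvPolynomial (Fin n × Fin n) k →ₐ[k] MvPolynomial (Fin n × Fin n) k :=
    MvPolynomial.aeval fun p => ((P.map MvPolynomial.C * mvPolynomialX (Fin n) (Fin n) k * P⁻¹.map MvPolynomial.C :
      Matrix (Fin n) (Fin n) (MvPolynomial (Fin n × Fin n) k))) p.1 p.2
  have hL : ∀ (M : Mat) (G : MvPolynomial (Fin n × Fin n) k),
      MvPolynomial.eval (fun p => M p.1 p.2) (L G) = MvPolynomial.eval (fun p => (P * M * P⁻¹) p.1 p.2) G := by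
    intro M G
    simp only [L]
    induction G using MvPolynomial.induction_on with
    | C c => simp
    | add p q hp hq => simp only [map_add, hp, hq]
    | mul_X p i hp =>
      rw [map_mul, map_mul, MvPolynomial.aeval_X, hp, map_mul, MvPolynomial.eval_X]
      congr 1
      simp [Matrix.mul_apply, mvPolynomialX]
  have := h (L F) fun A hA => by
    rw [hL, show P * (A * B * A⁻¹) * P⁻¹ = (P * A) * B * (P * A)⁻¹ by
      rw [Matrix.mul_inv_rev]; simp only [Matrix.mul_assoc]]
    exact hF _ (by rw [det_mul]; exact hP.mul hA)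
  rwa [hL] at this

lemma ClIn.charpoly_eq {B C : Mat} (h : ClIn B C) : C.charpoly = B.charpoly := by
  ext i
  let F : MvPolynomial (Fin n × Fin n) k :=
    (mvPolynomialX (Fin n) (Fin n) k).charpoly.coeff i - MvPolynomial.C (B.charpoly.coeff i)
  have hev : ∀ M : Mat, MvPolynomial.eval (fun p => M p.1 p.2) F = M.charpoly.coeff i - B.charpoly.coeff i := by
    intro M
    simp only [F, map_sub, MvPolynomial.eval_C]
    rw [← Polynomial.coeff_map, ← Matrix.charpoly_map]
    congr 2
    congr 1
    ext a b
    simp [mvPolynomialX]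
  have := h F fun A hA => by
    rw [hev]
    have : (A * B * A⁻¹).charpoly = B.charpoly := charpoly_conj B hA
    rw [this, sub_self]
  rwa [hev, sub_eq_zero] at this

/-- Semisimple endomorphisms: an equivariant projection onto an invariant submodule. -/
lemma exists_proj {S : Mat} (hS : Module.End.IsSemisimple (toLin' S)) (V : Submodule k (Fin n → k))
    (hV : ∀ v ∈ V, toLin' S v ∈ V) :
    ∃ P : Mat, Commute P S ∧ (∀ v ∈ V, toLin' P v = v) ∧ ∀ v, toLin' P v ∈ V := by
  obtain ⟨W, hW, hc⟩ := Module.End.isSemisimple_iff.1 hS V hV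
  refine ⟨LinearMap.toMatrix' (V.projection W hc), ?_, fun v hv => ?_, fun v => ?_⟩
  · apply Matrix.toLin'.injective
    rw [toLin'_mul, toLin'_mul, toLin'_toMatrix']
    refine LinearMap.ext fun v => ?_
    obtain ⟨a, ha, b, hb, rfl⟩ := Submodule.mem_sup.1 (hc.sup_eq_top ▸ Submodule.mem_top : v ∈ V ⊔ W)
    simp only [LinearMap.comp_apply, map_add]
    rw [Submodule.projection_apply_of_mem_left hc ha, Submodule.projection_apply_of_mem_right hc hb,
      Submodule.projection_apply_of_mem_left hc (hV a ha), Submodule.projection_apply_of_mem_right hc (hW hb),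
      map_zero]
  · rw [toLin'_toMatrix']; exact Submodule.projection_apply_of_mem_left hc hv
  · rw [toLin'_toMatrix']; exact Submodule.projection_apply_mem hc v

theorem semisimplePart_mem [Infinite k] {B S N : Mat} (hS : Module.End.IsSemisimple (toLin' S))
    (hN : IsNilpotent N) (hSN : Commute S N) (hB : B = S + N) : ClIn B S := by
  classical
  obtain ⟨m, hm⟩ := hN
  let V : ℕ → Submodule k (Fin n → k) := fun j => LinearMap.ker (toLin' (N ^ j))
  have hVS : ∀ j, ∀ v ∈ V j, toLin' S v ∈ V j := fun j v hv => by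
    simp only [V, LinearMap.mem_ker] at hv ⊢
    rw [← toLin'_mul_apply, ← (hSN.pow_right j).eq, toLin'_mul_apply, hv, map_zero]
  choose P hPS hPfix hPmem using fun j => exists_proj hS (V j) (hVS j)
  let Q : ℕ → Mat := fun j => Nat.rec (1 : Mat) (fun d q => P (m - (d + 1)) * q) (m - j)
  have hQtop : ∀ j, m ≤ j → Q j = 1 := fun j hj => by
    simp only [Q, Nat.sub_eq_zero_of_le hj]; rfl
  have hQstep : ∀ j, j < m → Q j = P j * Q (j + 1) := by
    intro j hj
    simp only [Q]
    obtain ⟨d, hd⟩ : ∃ d, m - j = d + 1 := ⟨m - j - 1, by omega⟩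
    rw [hd, show m - (j + 1) = d by omega]
    show P (m - (d + 1)) * _ = _
    rw [show m - (d + 1) = j by omega]
  have hVmono : ∀ i j, i ≤ j → V i ≤ V j := fun i j hij v hv => by
    simp only [V, LinearMap.mem_ker] at hv ⊢
    rw [show N ^ j = N ^ (j - i) * N ^ i by rw [← pow_add, Nat.sub_add_cancel hij], toLin'_mul_apply, hv, map_zero]
  have hQ : ∀ d j, m - j = d → Commute (Q j) S ∧ (∀ v ∈ V j, toLin' (Q j) v = v) ∧ ∀ v, toLin' (Q j) v ∈ V j := by
    intro d
    induction d with
    | zero =>
      intro j hj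
      rw [hQtop j (by omega)]
      refine ⟨Commute.one_left _, fun v _ => by simp, fun v => ?_⟩
      rw [LinearMap.mem_ker, show N ^ j = 0 from pow_eq_zero_of_le (by omega) hm, map_zero, LinearMap.zero_apply]
    | succ d ih =>
      intro j hj
      obtain ⟨hc, hfix, -⟩ := ih (j + 1) (by omega)
      rw [hQstep j (by omega)]
      refine ⟨(hPS j).mul_left hc, fun v hv => ?_, fun v => ?_⟩
      · rw [toLin'_mul_apply, hfix v (hVmono j (j + 1) (by omega) hv), hPfix j v hv]
      · rw [toLin'_mul_apply]; exact hPmem j _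
  have hQ' := fun j => hQ (m - j) j rfl
  have hfix' : ∀ i j, i ≤ j → Q j * Q i = Q i := fun i j hij => by
    apply Matrix.toLin'.injective
    refine LinearMap.ext fun v => ?_
    rw [toLin'_mul_apply]
    exact (hQ' j).2.1 _ (hVmono i j hij ((hQ' i).2.2 v))
  have hdown : ∀ i j, i ≤ j → Q i * Q j = Q i := by
    intro i j hij
    rcases le_or_gt m i with h | h
    · rw [hQtop i h, hQtop j (h.trans hij), mul_one]
    · obtain ⟨d, rfl⟩ := Nat.exists_eq_add_of_le hij
      clear hij
      induction d generalizing i with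
      | zero => exact hfix' i i le_rfl
      | succ d ih =>
        rw [hQstep i h, mul_assoc]
        congr 1
        rcases le_or_gt m (i + 1) with h' | h'
        · rw [hQtop (i + (d + 1)) (by omega), mul_one]
        · have := ih (i + 1) h'
          rwa [show i + 1 + d = i + (d + 1) by omega] at this
  let π : ℕ → Mat := fun j => Q (j + 1) - Q j
  have hπS : ∀ j, π j * S = S * π j := fun j => by
    simp only [π, sub_mul, mul_sub, (hQ' j).1.eq, (hQ' (j + 1)).1.eq]
  have horth : ∀ i j, π i * π j = if i = j then π i else 0 := by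
    intro i j
    simp only [π, sub_mul, mul_sub]
    rcases lt_trichotomy i j with h | rfl | h
    · rw [if_neg h.ne, hdown (i + 1) (j + 1) (by omega), hdown (i + 1) j (by omega), hdown i (j + 1) (by omega),
        hdown i j h.le]
      abel
    · rw [if_pos rfl, hdown (i + 1) (i + 1) le_rfl, hfix' i (i + 1) (by omega), hdown i (i + 1) (by omega),
        hdown i i le_rfl]
      abel
    · rw [if_neg h.ne', hfix' (j + 1) (i + 1) (by omega), hfix' j (i + 1) (by omega), hfix' (j + 1) i (by omega),
        hfix' j i h.le]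
      abel
  have hQ0 : Q 0 = 0 := by
    apply Matrix.toLin'.injective
    refine LinearMap.ext fun v => ?_
    have := (hQ' 0).2.2 v
    simpa [V] using this
  have hsum : ∑ j ∈ Finset.range m, π j = 1 := by
    simp only [π]
    rw [Finset.sum_range_sub, hQtop m le_rfl, hQ0, sub_zero]
  have hNdown : ∀ i j, j ≤ i → π i * N * π j = 0 := by
    intro i j hij
    apply Matrix.toLin'.injective
    refine LinearMap.ext fun v => ?_
    rw [toLin'_mul_apply, toLin'_mul_apply, map_zero, LinearMap.zero_apply]
    set w := toLin' (π j) v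
    have hw : w ∈ V (j + 1) := by
      simp only [w, π, map_sub, LinearMap.sub_apply]
      exact sub_mem ((hQ' (j + 1)).2.2 v) (hVmono j (j + 1) (by omega) ((hQ' j).2.2 v))
    have hNw : toLin' N w ∈ V i := by
      refine hVmono j i hij ?_
      simp only [V, LinearMap.mem_ker] at hw ⊢
      rw [← toLin'_mul_apply, ← pow_succ, hw]
    simp only [π, map_sub, LinearMap.sub_apply]
    rw [(hQ' i).2.1 _ hNw, (hQ' (i + 1)).2.1 _ (hVmono i (i + 1) (by omega) hNw), sub_self]
  intro F hF
  let M : k → Mat := fun t => S + ∑ i ∈ Finset.range m, ∑ j ∈ Finset.range m, t ^ (j - i) • (π i * N * π j)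
  have hM0 : M 0 = S := by
    simp only [M, add_eq_left]
    refine Finset.sum_eq_zero fun i _ => Finset.sum_eq_zero fun j _ => ?_
    rcases le_or_gt j i with h | h
    · rw [hNdown i j h, smul_zero]
    · rw [zero_pow (by omega), zero_smul]
  have hconj : ∀ t : k, t ≠ 0 → ∃ A : Mat, IsUnit A.det ∧ A * B * A⁻¹ = M t := by
    intro t ht
    let A : Mat := ∑ j ∈ Finset.range m, t ^ (m - j) • π j
    let A' : Mat := ∑ j ∈ Finset.range m, (t⁻¹) ^ (m - j) • π j
    have hAA : A * A' = 1 := by
      simp only [A, A', Finset.sum_mul, Finset.mul_sum, smul_mul_assoc, mul_smul_comm, horth, smul_ite, smul_zero,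
        Finset.sum_ite_eq', Finset.sum_ite_eq]
      rw [← hsum]
      refine Finset.sum_congr rfl fun j hj => ?_
      rw [if_pos hj, smul_smul, ← mul_pow, inv_mul_cancel₀ ht, one_pow, one_smul]
    refine ⟨A, Matrix.isUnit_det_of_right_inverse hAA, ?_⟩
    rw [Matrix.inv_eq_right_inv hAA, hB, mul_add, add_mul]
    congr 1
    · have : A * S = S * A := by
        simp only [A, Finset.sum_mul, Finset.mul_sum, smul_mul_assoc, mul_smul_comm, hπS]
      rw [this, mul_assoc, hAA, mul_one]
    · simp only [A, A', Finset.sum_mul, Finset.mul_sum, smul_mul_assoc, mul_smul_comm, Finset.smul_sum, smul_smul]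
      rw [Finset.sum_comm]
      refine Finset.sum_congr rfl fun i hi => Finset.sum_congr rfl fun j hj => ?_
      rcases le_or_gt j i with h | h
      · rw [hNdown i j h, smul_zero, smul_zero]
      · congr 1
        have hi' := Finset.mem_range.1 hi
        have hj' := Finset.mem_range.1 hj
        rw [show m - i = (j - i) + (m - j) by omega, pow_add, mul_comm ((t⁻¹) ^ _), mul_assoc, ← mul_pow,
          mul_inv_cancel₀ ht, one_pow, mul_one]
  let g : Fin n × Fin n → Polynomial k := fun p => Polynomial.C (S p.1 p.2) +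
    ∑ i ∈ Finset.range m, ∑ j ∈ Finset.range m, Polynomial.X ^ (j - i) * Polynomial.C ((π i * N * π j) p.1 p.2)
  let q : Polynomial k := MvPolynomial.aeval g F
  have hq : ∀ t, q.eval t = MvPolynomial.eval (fun p => M t p.1 p.2) F := by
    intro t
    simp only [q]
    rw [MvPolynomial.aeval_def, ← Polynomial.coe_evalRingHom, MvPolynomial.eval₂_comp_left, ← MvPolynomial.eval₂_id]
    congr 1
    · ext c; simp
    · funext p
      simp [g, M, Matrix.sum_apply, Polynomial.eval_finsetSum]
      exact Finset.sum_congr rfl fun _ _ => Finset.sum_congr rfl fun _ _ => mul_comm _ _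
  have hq0 : q = 0 := Polynomial.eq_zero_of_infinite_isRoot q (Set.Infinite.mono (fun t ht => by
    obtain ⟨A, hA, hAt⟩ := hconj t ht
    show q.IsRoot t
    rw [Polynomial.IsRoot, hq, ← hAt]; exact hF A hA) ((Set.finite_singleton (0 : k)).infinite_compl))
  rw [← hM0, ← hq, hq0, Polynomial.eval_zero]

/-- A semisimple matrix over an algebraically closed field is diagonalisable. -/
theorem exists_diag [IsAlgClosed k] {S : Mat} (hS : Module.End.IsSemisimple (toLin' S)) :
    ∃ (P : Mat) (d : Fin n → k), IsUnit P.det ∧ S = P * diagonal d * P⁻¹ := by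
  classical
  have hint : DirectSum.IsInternal (fun μ : k => Module.End.eigenspace (toLin' S) μ) :=
    DirectSum.isInternal_submodule_of_iSupIndep_of_iSup_eq_top (Module.End.eigenspaces_iSupIndep _)
      (Module.End.IsSemisimple.iSup_eigenspace_eq_top hS)
  let b := hint.collectedBasis fun μ => Module.Basis.ofVectorSpace k (Module.End.eigenspace (toLin' S) μ)
  haveI := Module.Finite.finite_basis b
  haveI := Fintype.ofFinite (Σ μ : k, Module.Basis.ofVectorSpaceIndex k (Module.End.eigenspace (toLin' S) μ))
  let e := Fintype.equivFinOfCardEq (α := Σ μ : k, Module.Basis.ofVectorSpaceIndex k (Module.End.eigenspace (toLin' S) μ))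
    (n := n) (by rw [← Module.finrank_eq_card_basis b]; simp)
  let b' := b.reindex e
  let P : Mat := (Pi.basisFun k (Fin n)).toMatrix b'
  have hev : ∀ i, toLin' S (b' i) = (e.symm i).1 • b' i := fun i => by
    rw [Module.Basis.reindex_apply]
    exact Module.End.mem_eigenspace_iff.1 (hint.collectedBasis_mem _ (e.symm i))
  have hP : IsUnit P.det := Matrix.isUnit_det_of_right_inverse
    (Module.Basis.toMatrix_mul_toMatrix_flip (Pi.basisFun k (Fin n)) b')
  refine ⟨P, fun i => (e.symm i).1, hP, ?_⟩
  have : S * P = P * diagonal fun i => (e.symm i).1 := by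
    ext i j
    rw [Matrix.mul_diagonal]
    have h := congrFun (hev j) i
    rw [toLin'_apply, Pi.smul_apply, smul_eq_mul] at h
    have hPe : ∀ a c, P a c = b' c a := fun a c => by
      simp only [P, Module.Basis.toMatrix_apply, Pi.basisFun_repr]
    rw [hPe, mul_comm, ← h, Matrix.mul_apply]
    exact Finset.sum_congr rfl fun a _ => by rw [hPe]
  rw [← this, mul_assoc, Matrix.mul_nonsing_inv _ hP, mul_one]

theorem exists_conj [IsAlgClosed k] {S T : Mat} (hS : Module.End.IsSemisimple (toLin' S))
    (hT : Module.End.IsSemisimple (toLin' T)) (h : S.charpoly = T.charpoly) :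
    ∃ A : Mat, IsUnit A.det ∧ A * S * A⁻¹ = T := by
  classical
  obtain ⟨P, d, hP, rfl⟩ := exists_diag hS
  obtain ⟨Q, d', hQ, rfl⟩ := exists_diag hT
  have hc : ∀ (R : Mat) (c : Fin n → k), IsUnit R.det →
      (R * diagonal c * R⁻¹).charpoly.roots = Finset.univ.val.map c := by
    intro R c hR
    have : (R * diagonal c * R⁻¹).charpoly = (diagonal c).charpoly := charpoly_conj _ hR
    rw [this, Matrix.charpoly_diagonal, Finset.prod_eq_multiset_prod]
    rw [← Function.comp_def (fun a => Polynomial.X - Polynomial.C a) c, ← Multiset.map_map]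
    exact Polynomial.roots_multiset_prod_X_sub_C _
  have hm : Finset.univ.val.map d = Finset.univ.val.map d' := by rw [← hc P d hP, h, hc Q d' hQ]
  obtain ⟨σ, hσ⟩ : ∃ σ : Equiv.Perm (Fin n), ∀ i, d' i = d (σ i) := by
    have hcard : ∀ c, Fintype.card {i // d' i = c} = Fintype.card {i // d i = c} := fun c => by
      have h2 := congrArg (Multiset.count c) hm
      rw [Multiset.count_map, Multiset.count_map] at h2
      simp only [Fintype.card_subtype, Finset.card_def, Finset.filter_val]
      rw [Multiset.filter_congr (fun x _ => eq_comm (a := d' x) (b := c)),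
        Multiset.filter_congr (fun x _ => eq_comm (a := d x) (b := c))]
      exact h2.symm
    refine ⟨Equiv.ofFiberEquiv fun c => Fintype.equivOfCardEq (hcard c), fun i => (Equiv.ofFiberEquiv_map _ i).symm⟩
  let Pσ : Mat := (1 : Mat).submatrix σ id
  let Pσ' : Mat := (1 : Mat).submatrix σ.symm id
  have hPP : Pσ * Pσ' = 1 := by
    ext i j
    simp [Pσ, Pσ', Matrix.mul_apply, Matrix.one_apply, Equiv.symm_apply_eq, σ.injective.eq_iff]
  have hdd : Pσ * diagonal d * Pσ' = diagonal d' := by
    ext i j
    simp [Pσ, Pσ', Matrix.mul_apply, Matrix.one_apply, Matrix.diagonal_apply, hσ, Equiv.symm_apply_eq, σ.injective.eq_iff]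
    split_ifs with h
    · subst h; rfl
    · rfl
  refine ⟨Q * Pσ * P⁻¹, ?_, ?_⟩
  · rw [det_mul, det_mul]
    exact (hQ.mul (Matrix.isUnit_det_of_right_inverse hPP)).mul (P.isUnit_nonsing_inv_det hP)
  · rw [Matrix.mul_inv_rev, Matrix.mul_inv_rev, Matrix.nonsing_inv_nonsing_inv _ hP, Matrix.inv_eq_right_inv hPP]
    calc Q * Pσ * P⁻¹ * (P * diagonal d * P⁻¹) * (P * (Pσ' * Q⁻¹))
        = Q * Pσ * ((P⁻¹ * P) * diagonal d * ((P⁻¹ * P) * (Pσ' * Q⁻¹))) := by simp only [Matrix.mul_assoc]
      _ = Q * (Pσ * diagonal d * Pσ') * Q⁻¹ := by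
        rw [Matrix.nonsing_inv_mul _ hP]; simp only [Matrix.one_mul, Matrix.mul_assoc]
      _ = _ := by rw [hdd]

end Groth.Agent.JordanClH28
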